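import Groth.Prelude.Def_SGA4a
import Mathlib.CategoryTheory.Sites.LocallyBijective
import Mathlib.CategoryTheory.Sites.LeftExact
import Mathlib.CategoryTheory.Comma.Over.Pullback
import Mathlib.CategoryTheory.Limits.FunctorCategory.Basic
import Mathlib.CategoryTheory.Adjunction.Triple
import Mathlib.CategoryTheory.Adjunction.Unique

/-!
The closed complement of an open `U` of a topos of sheaves of sets on a small site: it is the essential
image of `X ↦` sheafification of `c ↦ (IsEmpty (U c) → X c)`.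
-/

universe u

set_option linter.style.haveILetI false

open CategoryTheory CategoryTheory.Limits Opposite

namespace Groth.Agent.SGA4Open16

variable {C : Type u} [SmallCategory C] {J : GrothendieckTopology C} (U : Sheaf J (Type u))

lemma isEmpty_of_map (F : Cᵒᵖ ⥤ Type u) {c d : Cᵒᵖ} (f : c ⟶ d) (h : IsEmpty (F.obj d)) :
    IsEmpty (F.obj c) :=
  Function.isEmpty (fun x => F.map f x)

/-- `c ↦ (IsEmpty (U c) → X c)`. -/
@[simps]
def closPshObj (X : Cᵒᵖ ⥤ Type u) : Cᵒᵖ ⥤ Type u where
  obj c := IsEmpty (U.obj.obj c) → X.obj c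
  map {c d} f := ↾ fun g h => X.map f (g (isEmpty_of_map U.obj f h))
  map_id c := by
    refine ConcreteCategory.hom_ext _ _ fun g => funext fun h => ?_
    change X.map (𝟙 c) (g _) = g h
    simp
  map_comp f g := by
    refine ConcreteCategory.hom_ext _ _ fun x => funext fun h => ?_
    change X.map (f ≫ g) (x _) = X.map g (X.map f (x _))
    simp

/-- `closPshObj` as a functor. -/
@[simps]
def closPsh : (Cᵒᵖ ⥤ Type u) ⥤ (Cᵒᵖ ⥤ Type u) where
  obj X := closPshObj U X
  map {X Y} m :=
    { app := fun c => ↾ fun g h => m.app c (g h)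
      naturality := fun c d f => by
        ext g; funext h
        exact NatTrans.naturality_apply m f _ }
  map_id X := by ext c g; rfl
  map_comp f g := by ext c x; rfl

/-- The unit `X ⟶ closPsh X`. -/
@[simps]
def closEta (X : Cᵒᵖ ⥤ Type u) : X ⟶ (closPsh U).obj X where
  app c := ↾ fun x _ => x
  naturality c d f := by ext x; funext h; rfl

/-- The point `U ⟶ closPsh X`. -/
@[simps]
def closPt (X : Cᵒᵖ ⥤ Type u) : U.obj ⟶ (closPsh U).obj X where
  app c := ↾ fun x h => (h.false x).elim
  naturality c d f := by ext x; funext h; exact (h.false (U.obj.map f x)).elim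

lemma closPsh_ext_of_nonempty (X : Cᵒᵖ ⥤ Type u) {c : Cᵒᵖ} (h : Nonempty (U.obj.obj c))
    (g g' : ((closPsh U).obj X).obj c) : g = g' :=
  funext fun h' => (h'.false h.some).elim

lemma closEta_surjective (X : Cᵒᵖ ⥤ Type u) {c : Cᵒᵖ} (h : IsEmpty (U.obj.obj c))
    (g : ((closPsh U).obj X).obj c) : (closEta U X).app c (g h) = g :=
  funext fun _ => rfl

lemma closEta_injective (X : Cᵒᵖ ⥤ Type u) {c : Cᵒᵖ} (h : IsEmpty (U.obj.obj c))
    {x y : X.obj c} (e : (closEta U X).app c x = (closEta U X).app c y) : x = y :=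
  congrFun e h

instance closPsh_preservesFiniteLimits : PreservesFiniteLimits (closPsh U) := by
  refine ⟨fun K _ _ => preservesLimitsOfShape_of_evaluation _ _ fun c => ⟨fun {D} => ⟨fun {t} ht => ?_⟩⟩⟩
  rw [Types.isLimit_iff]
  intro s hs
  have ht' := (Types.isLimit_iff _).1 ⟨isLimitOfPreserves ((evaluation _ (Type u)).obj c) ht⟩
  have key : ∀ h : IsEmpty (U.obj.obj c), ∃! x : t.pt.obj c, ∀ j, (t.π.app j).app c x = s j h :=
    fun h => ht' (fun j => s j h) (fun {j j'} f => congrFun (hs f) h)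
  refine ⟨fun h => (key h).choose, fun j => funext fun h => (key h).choose_spec.1 j, ?_⟩
  intro g hg
  funext h
  exact (key h).choose_spec.2 _ fun j => congrFun (hg j) h

/-- The binary product of sheaves of sets is computed sectionwise. -/
lemma prod_app_bijective (A B : Sheaf J (Type u)) (c : Cᵒᵖ) :
    Function.Bijective fun z : (A ⨯ B).obj.obj c =>
      (((prod.fst : A ⨯ B ⟶ A).hom.app c z, (prod.snd : A ⨯ B ⟶ B).hom.app c z) :
        A.obj.obj c × B.obj.obj c) := by
  let F : Sheaf J (Type u) ⥤ Type u := sheafToPresheaf J _ ⋙ (evaluation _ _).obj c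
  have h := isLimitOfHasBinaryProductOfPreservesLimit F A B
  let e := h.conePointUniqueUpToIso (Types.binaryProductLimit _ _)
  have hbij : Function.Bijective (e.hom : _ → _) := (isIso_iff_bijective e.hom).1 inferInstance
  exact hbij

lemma subsingleton_sections (hU : SGA4.IsOpen U) (c : Cᵒᵖ) : Subsingleton (U.obj.obj c) := by
  refine ⟨fun a b => ?_⟩
  obtain ⟨z, hz⟩ := (prod_app_bijective U U c).2 (a, b)
  haveI : Mono (terminal.from U) := hU
  have h : (prod.fst : U ⨯ U ⟶ U) = prod.snd := (cancel_mono (terminal.from U)).1 (Subsingleton.elim _ _)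
  have h1 : (prod.fst : U ⨯ U ⟶ U).hom.app c z = a := congrArg Prod.fst hz
  have h2 : (prod.snd : U ⨯ U ⟶ U).hom.app c z = b := congrArg Prod.snd hz
  rw [← h1, ← h2, h]

lemma sheaf_isIso_iff_bijective {F G : Sheaf J (Type u)} (m : F ⟶ G) :
    IsIso m ↔ ∀ c, Function.Bijective (m.hom.app c) := by
  rw [← isIso_iff_of_reflects_iso m (sheafToPresheaf J _), NatTrans.isIso_iff_isIso_app]
  exact forall_congr' fun c => isIso_iff_bijective _

/-- `Z` is in the closed complement iff its sections are singletons where `U` has a section. -/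
lemma closedCompl_iff (hU : SGA4.IsOpen U) (Z : Sheaf J (Type u)) :
    SGA4.closedCompl U Z ↔
      ∀ c, Nonempty (U.obj.obj c) → Nonempty (Z.obj.obj c) ∧ Subsingleton (Z.obj.obj c) := by
  refine Iff.trans (sheaf_isIso_iff_bijective _) (forall_congr' fun c => ?_)
  have hb := prod_app_bijective U Z c
  haveI := subsingleton_sections U hU c
  constructor
  · rintro ⟨hi, hs⟩ ⟨p⟩
    obtain ⟨z, -⟩ := hs p
    refine ⟨⟨(prod.snd : U ⨯ Z ⟶ Z).hom.app c z⟩, ⟨fun x y => ?_⟩⟩
    obtain ⟨a, ha⟩ := hb.2 (p, x)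
    obtain ⟨b, hb'⟩ := hb.2 (p, y)
    have e : a = b := hi (Subsingleton.elim _ _)
    exact (congrArg Prod.snd ha).symm.trans
      ((congrArg (fun w => (prod.snd : U ⨯ Z ⟶ Z).hom.app c w) e).trans (congrArg Prod.snd hb'))
  · intro h
    refine ⟨fun a b _ => hb.1 (Prod.ext (Subsingleton.elim _ _) ?_), fun p => ?_⟩
    · haveI := (h ⟨(prod.fst : U ⨯ Z ⟶ U).hom.app c a⟩).2
      exact Subsingleton.elim _ _
    · obtain ⟨x⟩ := (h ⟨p⟩).1
      exact ⟨(hb.2 (p, x)).choose, Subsingleton.elim _ _⟩

lemma isIso_prodMap_iff (hU : SGA4.IsOpen U) {X Y : Sheaf J (Type u)} (m : X ⟶ Y) :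
    IsIso (prod.map (𝟙 U) m) ↔ ∀ c, Nonempty (U.obj.obj c) → Function.Bijective (m.hom.app c) := by
  refine Iff.trans (sheaf_isIso_iff_bijective _) (forall_congr' fun c => ?_)
  haveI := subsingleton_sections U hU c
  have hX := prod_app_bijective U X c
  have hY := prod_app_bijective U Y c
  have e : ∀ z, (prod.snd : U ⨯ Y ⟶ Y).hom.app c ((prod.map (𝟙 U) m).hom.app c z) =
      m.hom.app c ((prod.snd : U ⨯ X ⟶ X).hom.app c z) := fun z => by
    have := congrArg (fun f : U ⨯ X ⟶ Y => f.hom.app c z) (prod.map_snd (𝟙 U) m)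
    exact this
  constructor
  · rintro ⟨hi, hs⟩ ⟨p⟩
    refine ⟨fun x y h => ?_, fun y => ?_⟩
    · obtain ⟨a, ha⟩ := hX.2 (p, x)
      obtain ⟨b, hb⟩ := hX.2 (p, y)
      have hab : a = b := hi (hY.1 (Prod.ext (Subsingleton.elim _ _) (by
        dsimp only
        simp only [Prod.mk.injEq] at ha hb
        rw [e, e, ha.2, hb.2]; exact h)))
      simp only [Prod.mk.injEq] at ha hb
      rw [← ha.2, ← hb.2, hab]
    · obtain ⟨b, hb⟩ := hY.2 (p, y)
      obtain ⟨a, rfl⟩ := hs b
      exact ⟨_, (e a).symm.trans (congrArg Prod.snd hb)⟩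
  · intro h
    refine ⟨fun a b hab => ?_, fun b => ?_⟩
    · refine hX.1 (Prod.ext (Subsingleton.elim _ _) ?_)
      refine (h ⟨(prod.fst : U ⨯ X ⟶ U).hom.app c a⟩).1 ?_
      rw [← e, ← e, hab]
    · obtain ⟨x, hx⟩ := (h ⟨(prod.fst : U ⨯ Y ⟶ U).hom.app c b⟩).2 ((prod.snd : U ⨯ Y ⟶ Y).hom.app c b)
      obtain ⟨a, ha⟩ := hX.2 ((prod.fst : U ⨯ Y ⟶ U).hom.app c b, x)
      refine ⟨a, hY.1 (Prod.ext (Subsingleton.elim _ _) ?_)⟩
      dsimp only
      simp only [Prod.mk.injEq] at ha
      rw [e, ha.2]; exact hx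

lemma sheaf_ext_of_cover (F : Sheaf J (Type u)) {c : C} {S : Sieve c} (hS : S ∈ J c)
    {s t : F.obj.obj (op c)} (h : ∀ ⦃d⦄ (f : d ⟶ c), S f → F.obj.map f.op s = F.obj.map f.op t) :
    s = t :=
  ((isSheaf_iff_isSheaf_of_type J F.obj).1 F.property S hS).isSeparatedFor.ext h

lemma toSheafify_closed (hU : SGA4.IsOpen U) (X : Cᵒᵖ ⥤ Type u) :
    SGA4.closedCompl U ((presheafToSheaf J _).obj ((closPsh U).obj X)) := by
  rw [closedCompl_iff U hU]
  rintro c ⟨p⟩
  set P := (closPsh U).obj X
  refine ⟨⟨(toSheafify J P).app c ((closPt U X).app c p)⟩, ⟨fun s t => ?_⟩⟩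
  obtain ⟨c⟩ := c
  refine sheaf_ext_of_cover _ (J.intersection_covering
    (Presheaf.imageSieve_mem J (toSheafify J P) s) (Presheaf.imageSieve_mem J (toSheafify J P) t)) ?_
  rintro d f ⟨⟨a, ha⟩, ⟨b, hb⟩⟩
  rw [← ha.trans rfl, ← hb.trans rfl,
    closPsh_ext_of_nonempty U X ⟨U.obj.map f.op p⟩ a b]

/-- The reflector to the closed complement. -/
noncomputable def closedL (hU : SGA4.IsOpen U) :
    Sheaf J (Type u) ⥤ (SGA4.closedCompl U).FullSubcategory :=
  (SGA4.closedCompl U).lift (sheafToPresheaf J _ ⋙ closPsh U ⋙ presheafToSheaf J _)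
    fun X => toSheafify_closed U hU X.obj

/-- The unit of the reflection. -/
noncomputable def closedUnit (hU : SGA4.IsOpen U) (X : Sheaf J (Type u)) :
    X ⟶ ((closedL U hU).obj X).obj :=
  ⟨closEta U X.obj ≫ toSheafify J _⟩

/-- The map from `U` into the reflection. -/
noncomputable def closedPoint (hU : SGA4.IsOpen U) (X : Sheaf J (Type u)) :
    U ⟶ ((closedL U hU).obj X).obj :=
  ⟨closPt U X.obj ≫ toSheafify J _⟩

lemma closedPoint_w (hU : SGA4.IsOpen U) (X : Sheaf J (Type u)) :
    (prod.fst : U ⨯ X ⟶ U) ≫ closedPoint U hU X = prod.snd ≫ closedUnit U hU X := by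
  refine ObjectProperty.hom_ext _ (NatTrans.ext (funext fun c => ?_))
  ext z
  exact congrArg (fun w => ConcreteCategory.hom ((toSheafify J ((closPsh U).obj X.obj)).app c) w)
    (closPsh_ext_of_nonempty U X.obj ⟨(prod.fst : U ⨯ X ⟶ U).hom.app c z⟩ _ _)

lemma closed_hom_ext {X : Cᵒᵖ ⥤ Type u} {Z : Sheaf J (Type u)} {a b : (closPsh U).obj X ⟶ Z.obj}
    (h₁ : closEta U X ≫ a = closEta U X ≫ b) (h₂ : closPt U X ≫ a = closPt U X ≫ b) : a = b := by
  refine NatTrans.ext (funext fun c => ?_)
  ext g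
  by_cases hc : IsEmpty (U.obj.obj c)
  · rw [← closEta_surjective U X hc g]
    exact ConcreteCategory.congr_hom (congrArg (fun f => NatTrans.app f c) h₁) (g hc)
  · obtain ⟨p⟩ := not_isEmpty_iff.1 hc
    rw [closPsh_ext_of_nonempty U X ⟨p⟩ g ((closPt U X).app c p)]
    exact ConcreteCategory.congr_hom (congrArg (fun f => NatTrans.app f c) h₂) p

section Desc

variable {U}
variable (hU : SGA4.IsOpen U) {X Z : Sheaf J (Type u)} (u : U ⟶ Z) (x : X ⟶ Z)
  (w : (prod.fst : U ⨯ X ⟶ U) ≫ u = prod.snd ≫ x)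

include w in
lemma agree {c : Cᵒᵖ} (p : U.obj.obj c) (a : X.obj.obj c) : u.hom.app c p = x.hom.app c a := by
  obtain ⟨z, hz⟩ := (prod_app_bijective U X c).2 (p, a)
  have h := ConcreteCategory.congr_hom (congrArg (fun f : U ⨯ X ⟶ Z => f.hom.app c) w) z
  simp only [Prod.mk.injEq] at hz
  rw [← hz.1, ← hz.2]
  exact h

open scoped Classical in
/-- Descent along the pushout. -/
noncomputable def closDesc : (closPsh U).obj X.obj ⟶ Z.obj where
  app c := ↾ fun g => if h : IsEmpty (U.obj.obj c) then x.hom.app c (g h)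
    else u.hom.app c (not_isEmpty_iff.1 h).some
  naturality := fun c d f => by
    ext g
    change dite _ _ _ = Z.obj.map f (dite _ _ _)
    haveI := subsingleton_sections U hU d
    by_cases hd : IsEmpty (U.obj.obj d)
    · rw [dif_pos hd, dif_pos (isEmpty_of_map U.obj f hd)]
      exact NatTrans.naturality_apply x.hom f _
    · rw [dif_neg hd]
      by_cases hc : IsEmpty (U.obj.obj c)
      · rw [dif_pos hc, agree u x w (not_isEmpty_iff.1 hd).some (X.obj.map f (g hc))]
        exact NatTrans.naturality_apply x.hom f _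
      · rw [dif_neg hc, ← NatTrans.naturality_apply u.hom f]
        exact congrArg _ (Subsingleton.elim _ _)

lemma closEta_closDesc : closEta U X.obj ≫ closDesc hU u x w = x.hom := by
  classical
  refine NatTrans.ext (funext fun c => ?_)
  ext a
  change dite _ _ _ = _
  split_ifs with h
  · rfl
  · exact agree u x w _ a

lemma closPt_closDesc : closPt U X.obj ≫ closDesc hU u x w = u.hom := by
  classical
  refine NatTrans.ext (funext fun c => ?_)
  ext p
  haveI := subsingleton_sections U hU c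
  change dite _ _ _ = _
  rw [dif_neg (not_isEmpty_iff.2 ⟨p⟩)]
  exact congrArg _ (Subsingleton.elim _ _)

end Desc

lemma reflection_hom_ext (hU : SGA4.IsOpen U) {X Z : Sheaf J (Type u)}
    {a b : ((closedL U hU).obj X).obj ⟶ Z} (h₁ : closedUnit U hU X ≫ a = closedUnit U hU X ≫ b)
    (h₂ : closedPoint U hU X ≫ a = closedPoint U hU X ≫ b) : a = b := by
  refine ObjectProperty.hom_ext _ (sheafify_hom_ext _ _ _ Z.property (closed_hom_ext U ?_ ?_))
  · exact ((Category.assoc _ _ _).symm.trans (congrArg InducedCategory.Hom.hom h₁)).trans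
      (Category.assoc _ _ _)
  · exact ((Category.assoc _ _ _).symm.trans (congrArg InducedCategory.Hom.hom h₂)).trans
      (Category.assoc _ _ _)

/-- The reflection is the pushout of `U ← U × X → X`. -/
lemma isPushout_closed (hU : SGA4.IsOpen U) (X : Sheaf J (Type u)) :
    IsPushout (prod.fst : U ⨯ X ⟶ U) prod.snd (closedPoint U hU X) (closedUnit U hU X) := by
  refine ⟨⟨closedPoint_w U hU X⟩, ⟨PushoutCocone.IsColimit.mk _
    (fun s => ⟨sheafifyLift J (closDesc hU s.inl s.inr s.condition) s.pt.property⟩)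
    (fun s => ?_) (fun s => ?_) (fun s m h₁ h₂ => ?_)⟩⟩
  · refine ObjectProperty.hom_ext _ ?_
    exact ((Category.assoc _ _ _).trans (congrArg (closPt U X.obj ≫ ·)
      (toSheafify_sheafifyLift J _ _))).trans (closPt_closDesc hU _ _ _)
  · refine ObjectProperty.hom_ext _ ?_
    exact ((Category.assoc _ _ _).trans (congrArg (closEta U X.obj ≫ ·)
      (toSheafify_sheafifyLift J _ _))).trans (closEta_closDesc hU _ _ _)
  · refine reflection_hom_ext U hU (h₂.trans ?_) (h₁.trans ?_)
    · refine ObjectProperty.hom_ext _ ?_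
      exact (((Category.assoc _ _ _).trans (congrArg (closEta U X.obj ≫ ·)
        (toSheafify_sheafifyLift J _ _))).trans (closEta_closDesc hU _ _ _)).symm
    · refine ObjectProperty.hom_ext _ ?_
      exact (((Category.assoc _ _ _).trans (congrArg (closPt U X.obj ≫ ·)
        (toSheafify_sheafifyLift J _ _))).trans (closPt_closDesc hU _ _ _)).symm

lemma bijective_closedUnit_comp (hU : SGA4.IsOpen U) (X : Sheaf J (Type u))
    (Z : (SGA4.closedCompl U).FullSubcategory) :
    Function.Bijective fun g : (closedL U hU).obj X ⟶ Z => closedUnit U hU X ≫ g.hom := by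
  haveI : IsIso (prod.fst : U ⨯ Z.obj ⟶ U) := Z.property
  have huniq : ∀ a b : U ⟶ Z.obj, a = b := fun a b => by
    refine ObjectProperty.hom_ext _ (NatTrans.ext (funext fun c => ?_))
    ext p
    haveI := ((closedCompl_iff U hU Z.obj).1 Z.property c ⟨p⟩).2
    exact Subsingleton.elim _ _
  refine ⟨fun g g' h => ObjectProperty.hom_ext _ (reflection_hom_ext U hU h (huniq _ _)), fun f => ?_⟩
  have w : (prod.fst : U ⨯ X ⟶ U) ≫ (inv (prod.fst : U ⨯ Z.obj ⟶ U) ≫ prod.snd) = prod.snd ≫ f := by
    have e : (prod.fst : U ⨯ X ⟶ U) ≫ inv (prod.fst : U ⨯ Z.obj ⟶ U) = prod.map (𝟙 U) f := by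
      rw [IsIso.comp_inv_eq, prod.map_fst, Category.comp_id]
    rw [← Category.assoc, e, prod.map_snd]
  exact ⟨ObjectProperty.homMk ((isPushout_closed U hU X).desc _ f w),
    (isPushout_closed U hU X).inr_desc _ f w⟩

/-- The adjunction. -/
noncomputable def closedAdj (hU : SGA4.IsOpen U) : closedL U hU ⊣ (SGA4.closedCompl U).ι :=
  Adjunction.mkOfHomEquiv
    { homEquiv := fun X Z => Equiv.ofBijective _ (bijective_closedUnit_comp U hU X Z)
      homEquiv_naturality_left_symm := fun {X' X Z} f g => by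
        apply (bijective_closedUnit_comp U hU X' Z).1
        dsimp only
        refine (Equiv.ofBijective_apply_symm_apply _ (bijective_closedUnit_comp U hU X' Z) _).trans ?_
        have hn : closedUnit U hU X' ≫ ((closedL U hU).map f).hom = f ≫ closedUnit U hU X := by
          refine ObjectProperty.hom_ext _ ?_
          change (closEta U X'.obj ≫ toSheafify J _) ≫ _ = f.hom ≫ closEta U X.obj ≫ toSheafify J _
          rw [Category.assoc]
          exact (congrArg (closEta U X'.obj ≫ ·) (toSheafify_naturality J _).symm).trans rfl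
        rw [ObjectProperty.FullSubcategory.comp_hom, ← Category.assoc, hn, Category.assoc]
        exact congrArg (f ≫ ·)
          (Equiv.ofBijective_apply_symm_apply _ (bijective_closedUnit_comp U hU X Z) g).symm
      homEquiv_naturality_right := fun {X Z Z'} g g' => by
        change closedUnit U hU X ≫ (g.hom ≫ g'.hom) = (closedUnit U hU X ≫ g.hom) ≫ g'.hom
        rw [Category.assoc] }

lemma closedAdj_unit (hU : SGA4.IsOpen U) (X : Sheaf J (Type u)) :
    (closedAdj U hU).unit.app X = closedUnit U hU X := by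
  rw [← Adjunction.homEquiv_id]
  simp only [closedAdj, Adjunction.mkOfHomEquiv_homEquiv]
  exact Category.comp_id (closedUnit U hU X)

instance closedL_preservesFiniteLimits (hU : SGA4.IsOpen U) : PreservesFiniteLimits (closedL U hU) :=
  haveI : PreservesFiniteLimits (closedL U hU ⋙ (SGA4.closedCompl U).ι) := by
    change PreservesFiniteLimits (sheafToPresheaf J _ ⋙ closPsh U ⋙ presheafToSheaf J _)
    haveI : PreservesFiniteLimits (closPsh U ⋙ presheafToSheaf J (Type u)) :=
      comp_preservesFiniteLimits _ _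
    exact comp_preservesFiniteLimits _ _
  preservesFiniteLimits_of_reflects_of_preserves _ (SGA4.closedCompl U).ι

lemma isIso_star_map_iff {X Y : Sheaf J (Type u)} (m : X ⟶ Y) :
    IsIso ((Over.star U).map m) ↔ IsIso (prod.map (𝟙 U) m) := by
  have e : ((Over.star U).map m).left = prod.map (𝟙 U) m := by
    simp [Over.star]
  rw [← e]
  exact (isIso_iff_of_reflects_iso _ (Over.forget U)).symm

lemma isIso_closedL_map_iff (hU : SGA4.IsOpen U) {X Y : Sheaf J (Type u)} (m : X ⟶ Y) :
    IsIso ((closedL U hU).map m) ↔ Presheaf.IsLocallyInjective J ((closPsh U).map m.hom) ∧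
      Presheaf.IsLocallySurjective J ((closPsh U).map m.hom) := by
  rw [← isIso_iff_of_reflects_iso ((closedL U hU).map m) (SGA4.closedCompl U).ι]
  change IsIso ((presheafToSheaf J _).map ((closPsh U).map m.hom)) ↔ _
  rw [← J.W_iff, J.W_iff_isLocallyBijective]

/-- The open and the closed restrictions are jointly conservative. -/
lemma isIso_of_star_of_closed (hU : SGA4.IsOpen U) {X Y : Sheaf J (Type u)} (m : X ⟶ Y)
    (h₁ : IsIso ((Over.star U).map m)) (h₂ : IsIso ((closedL U hU).map m)) : IsIso m := by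
  rw [isIso_star_map_iff, isIso_prodMap_iff U hU] at h₁
  obtain ⟨hi, hs⟩ := (isIso_closedL_map_iff U hU m).1 h₂
  rw [sheaf_isIso_iff_bijective]
  rintro ⟨c⟩
  refine ⟨fun x y h => ?_, fun y => ?_⟩
  · refine sheaf_ext_of_cover X (Presheaf.equalizerSieve_mem J ((closPsh U).map m.hom)
      ((closEta U X.obj).app _ x) ((closEta U X.obj).app _ y) (funext fun _ => h)) fun d f hf => ?_
    rcases isEmpty_or_nonempty (U.obj.obj (op d)) with he | hn
    · exact congrFun hf he
    · refine (h₁ _ hn).1 ?_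
      rw [NatTrans.naturality_apply, NatTrans.naturality_apply, h]
  · haveI : Presheaf.IsLocallyInjective J m.hom := by
      refine ⟨fun {c'} x y hxy => ?_⟩
      refine J.superset_covering ?_ (Presheaf.equalizerSieve_mem J ((closPsh U).map m.hom)
        ((closEta U X.obj).app _ x) ((closEta U X.obj).app _ y) (funext fun _ => hxy))
      intro d f hf
      rcases isEmpty_or_nonempty (U.obj.obj (op d)) with he | hn
      · exact congrFun hf he
      · refine (h₁ _ hn).1 ?_
        rw [NatTrans.naturality_apply, NatTrans.naturality_apply, hxy]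
    haveI : Presheaf.IsLocallySurjective J m.hom := by
      refine ⟨fun {c'} y => ?_⟩
      refine J.superset_covering ?_ (Presheaf.imageSieve_mem J ((closPsh U).map m.hom)
        ((closEta U Y.obj).app _ y))
      intro d f hf
      obtain ⟨g, hg⟩ := hf
      rcases isEmpty_or_nonempty (U.obj.obj (op d)) with he | hn
      · exact ⟨g he, congrFun hg he⟩
      · exact ⟨_, ((h₁ _ hn).2 _).choose_spec⟩
    haveI : IsIso m :=
      (Sheaf.isLocallyBijective_iff_isIso m).1 ⟨‹Presheaf.IsLocallyInjective J m.hom›,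
        ‹Presheaf.IsLocallySurjective J m.hom›⟩
    exact ((sheaf_isIso_iff_bijective m).1 inferInstance _).2 y

/-- `U × Z ⟶ U` is terminal over `U` for `Z` in the closed complement. -/
noncomputable def isTerminalStar (Z : (SGA4.closedCompl U).FullSubcategory) :
    IsTerminal ((Over.star U).obj Z.obj) := by
  haveI : IsIso (prod.fst : U ⨯ Z.obj ⟶ U) := Z.property
  exact Over.mkIdTerminal.ofIso (Over.isoMk (asIso (prod.fst : U ⨯ Z.obj ⟶ U)).symm
    (by simp [Over.star, coalgebraToOver]; erw [prod.lift_fst, IsIso.inv_hom_id]))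

lemma forget_full_faithful (hU : SGA4.IsOpen U) : Nonempty (Over.forget U).FullyFaithful := by
  haveI : Mono (terminal.from U) := hU
  exact ⟨{ preimage := fun {X Y} f => Over.homMk f ((cancel_mono (terminal.from U)).1 (Subsingleton.elim _ _)) }⟩

lemma starRightAdjoint_full_faithful (hU : SGA4.IsOpen U) [(Over.star U).IsLeftAdjoint] :
    Nonempty (Over.star U).rightAdjoint.FullyFaithful := by
  obtain ⟨h⟩ := forget_full_faithful U hU
  exact ⟨(Adjunction.Triple.mk (Over.forgetAdjStar U)
    (Adjunction.ofIsLeftAdjoint (Over.star U))).fullyFaithfulEquiv h⟩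

lemma preservesFiniteLimits_reflector (hU : SGA4.IsOpen U)
    {L : Sheaf J (Type u) ⥤ (SGA4.closedCompl U).FullSubcategory}
    (adj : L ⊣ (SGA4.closedCompl U).ι) : PreservesFiniteLimits L :=
  preservesFiniteLimits_of_natIso ((closedAdj U hU).leftAdjointUniq adj)

lemma jointly_conservative (hU : SGA4.IsOpen U)
    {L : Sheaf J (Type u) ⥤ (SGA4.closedCompl U).FullSubcategory}
    (adj : L ⊣ (SGA4.closedCompl U).ι) {X Y : Sheaf J (Type u)} (m : X ⟶ Y)
    (h₁ : IsIso ((Over.star U).map m)) (h₂ : IsIso (L.map m)) : IsIso m :=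
  isIso_of_star_of_closed U hU m h₁
    ((NatIso.isIso_map_iff ((closedAdj U hU).leftAdjointUniq adj) m).2 h₂)

end Groth.Agent.SGA4Open16
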