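import Mathlib.CategoryTheory.Adjunction.FullyFaithful
import Mathlib.CategoryTheory.Adjunction.Limits
import Mathlib.CategoryTheory.Comma.Basic
import Mathlib.CategoryTheory.Equivalence
import Mathlib.CategoryTheory.Limits.Shapes.Terminal
import Mathlib.CategoryTheory.Limits.Shapes.Pullback.IsPullback.Basic
import Mathlib.CategoryTheory.Limits.Preserves.Shapes.Pullbacks

/-!
Abstract gluing: a category `E` with two left exact, jointly conservative functors `p : E ⥤ A`,
`q : E ⥤ B` having fully faithful right adjoints `a`, `b`, such that `q (a Y)` is terminal for all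
`Y`, is equivalent to the comma category `(𝟭 A, b ⋙ p)`.
-/

set_option linter.style.haveILetI false

universe v₁ v₂ v₃ u₁ u₂ u₃

open CategoryTheory CategoryTheory.Limits

namespace Groth.Agent.SGA4Open16

section Gluing

variable {E : Type u₁} [Category.{v₁} E] {A : Type u₂} [Category.{v₂} A] {B : Type u₃} [Category.{v₃} B]
  {p : E ⥤ A} {a : A ⥤ E} {q : E ⥤ B} {b : B ⥤ E}
  (adjp : p ⊣ a) (adjq : q ⊣ b)

/-- Transport of an isomorphism across a cartesian square. -/
lemma isIso_fst_of_isPullback {P X Y Z : E} {fst : P ⟶ X} {snd : P ⟶ Y} {f : X ⟶ Z} {g : Y ⟶ Z}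
    (h : IsPullback fst snd f g) [IsIso g] : IsIso fst :=
  h.isIso_fst_of_isIso

variable [a.Full] [a.Faithful]

include adjp in
lemma isIso_map_unit (X : E) : IsIso (p.map (adjp.unit.app X)) := by
  have h : p.map (adjp.unit.app X) ≫ adjp.counit.app (p.obj X) = 𝟙 _ :=
    adjp.left_triangle_components X
  haveI : IsIso (adjp.counit.app (p.obj X)) := inferInstance
  have : p.map (adjp.unit.app X) = inv (adjp.counit.app (p.obj X)) :=
    (IsIso.inv_eq_of_inv_hom_id h).symm
  rw [this]; infer_instance

variable [b.Full] [b.Faithful] [HasPullbacks E]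
  [PreservesLimitsOfShape WalkingCospan p] [PreservesLimitsOfShape WalkingCospan q]
  (hq : ∀ Y : A, Nonempty (IsTerminal (q.obj (a.obj Y))))
  (hcons : ∀ {X Y : E} (m : X ⟶ Y), IsIso (p.map m) → IsIso (q.map m) → IsIso m)

include hq hcons in
/-- Every object is the fibre product of its images under the two reflections. -/
lemma isPullback_units (G : E) :
    IsPullback (adjp.unit.app G) (adjq.unit.app G) (a.map (p.map (adjq.unit.app G)))
      (adjp.unit.app (b.obj (q.obj G))) := by
  set f := a.map (p.map (adjq.unit.app G))
  set g := adjp.unit.app (b.obj (q.obj G))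
  have w : adjp.unit.app G ≫ f = adjq.unit.app G ≫ g := (adjp.unit.naturality (adjq.unit.app G)).symm
  let k : G ⟶ pullback f g := pullback.lift (adjp.unit.app G) (adjq.unit.app G) w
  haveI hp : IsIso (p.map k) := by
    haveI : IsIso (p.map g) := isIso_map_unit adjp _
    haveI : IsIso (p.map (pullback.fst f g)) :=
      ((IsPullback.of_hasPullback f g).map p).isIso_fst_of_isIso
    haveI : IsIso (p.map k ≫ p.map (pullback.fst f g)) := by
      rw [← p.map_comp, pullback.lift_fst]; exact isIso_map_unit adjp _
    exact IsIso.of_isIso_comp_right (p.map k) (p.map (pullback.fst f g))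
  haveI hq' : IsIso (q.map k) := by
    haveI : IsIso (q.map f) := isIso_of_isTerminal (hq _).some (hq _).some _
    haveI : IsIso (q.map (pullback.snd f g)) :=
      ((IsPullback.of_hasPullback f g).map q).isIso_snd_of_isIso
    haveI : IsIso (q.map k ≫ q.map (pullback.snd f g)) := by
      rw [← q.map_comp, pullback.lift_snd]; exact isIso_map_unit adjq _
    exact IsIso.of_isIso_comp_right (q.map k) (q.map (pullback.snd f g))
  haveI : IsIso k := hcons k hp hq'
  exact IsPullback.of_iso_pullback ⟨w⟩ (asIso k) (pullback.lift_fst _ _ _) (pullback.lift_snd _ _ _)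

/-- The functor to the comma category. -/
@[simps]
def toGlued : E ⥤ Comma (𝟭 A) (b ⋙ p) where
  obj G := { left := p.obj G, right := q.obj G, hom := p.map (adjq.unit.app G) }
  map {G G'} u :=
    { left := p.map u
      right := q.map u
      w := by
        change p.map u ≫ p.map (adjq.unit.app G') =
          p.map (adjq.unit.app G) ≫ p.map (b.map (q.map u))
        rw [← p.map_comp, ← p.map_comp]
        exact congrArg p.map (adjq.unit.naturality u) }

include adjp hq hcons in
theorem toGlued_faithful : (toGlued (p := p) adjq).Faithful where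
  map_injective {G G'} u v h := by
    have hp : p.map u = p.map v := congrArg CommaMorphism.left h
    have hq' : q.map u = q.map v := congrArg CommaMorphism.right h
    refine (isPullback_units adjp adjq hq hcons G').hom_ext ?_ ?_
    · rw [adjp.unit_naturality u |>.symm, adjp.unit_naturality v |>.symm, hp]
    · rw [adjq.unit_naturality u |>.symm, adjq.unit_naturality v |>.symm, hq']

include adjp hq hcons in
theorem toGlued_full : (toGlued (p := p) adjq).Full where
  map_surjective {G G'} φ := by
    obtain ⟨α, β, hw⟩ := φ
    change p.obj G ⟶ p.obj G' at α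
    change q.obj G ⟶ q.obj G' at β
    change α ≫ p.map (adjq.unit.app G') = p.map (adjq.unit.app G) ≫ p.map (b.map β) at hw
    have hP := isPullback_units adjp adjq hq hcons G'
    have w : adjp.homEquiv _ _ α ≫ a.map (p.map (adjq.unit.app G')) =
        adjq.homEquiv _ _ β ≫ adjp.unit.app (b.obj (q.obj G')) := by
      rw [← adjp.homEquiv_naturality_right, hw, adjq.homEquiv_unit, adjp.homEquiv_unit]
      rw [← p.map_comp, ← adjp.unit_naturality]
    refine ⟨hP.lift _ _ w, CommaMorphism.ext ?_ ?_⟩
    · refine (adjp.homEquiv _ _).injective ?_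
      have := hP.lift_fst _ _ w
      simp only [toGlued_map_left, adjp.homEquiv_unit] at this ⊢
      exact (adjp.unit.naturality _).symm.trans this
    · refine (adjq.homEquiv _ _).injective ?_
      have := hP.lift_snd _ _ w
      simp only [toGlued_map_right, adjq.homEquiv_unit] at this ⊢
      exact (adjq.unit.naturality _).symm.trans this

include adjp hq in
theorem toGlued_essSurj : (toGlued (p := p) adjq).EssSurj where
  mem_essImage Z := by
    obtain ⟨Y, X, f⟩ := Z
    change Y ⟶ p.obj (b.obj X) at f
    let g := adjp.unit.app (b.obj X)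
    let s := pullback.snd (a.map f) g
    have hw : pullback.fst (a.map f) g ≫ a.map f = s ≫ g := pullback.condition
    haveI : IsIso (p.map g) := isIso_map_unit adjp _
    haveI : IsIso (p.map (pullback.fst (a.map f) g)) :=
      ((IsPullback.of_hasPullback (a.map f) g).map p).isIso_fst_of_isIso
    haveI : IsIso (q.map (a.map f)) := isIso_of_isTerminal (hq _).some (hq _).some _
    haveI : IsIso (q.map s) := ((IsPullback.of_hasPullback (a.map f) g).map q).isIso_snd_of_isIso
    let l : p.obj (pullback (a.map f) g) ≅ Y :=
      asIso (p.map (pullback.fst (a.map f) g)) ≪≫ asIso (adjp.counit.app Y)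
    let r : q.obj (pullback (a.map f) g) ≅ X := asIso (q.map s) ≪≫ asIso (adjq.counit.app X)
    refine ⟨pullback (a.map f) g, ⟨Comma.isoMk l r ?_⟩⟩
    change (p.map (pullback.fst (a.map f) g) ≫ adjp.counit.app Y) ≫ f =
      p.map (adjq.unit.app (pullback (a.map f) g)) ≫ p.map (b.map (q.map s ≫ adjq.counit.app X))
    have e₁ : adjq.unit.app (pullback (a.map f) g) ≫ b.map (q.map s ≫ adjq.counit.app X) = s := by
      have h : s ≫ adjq.unit.app (b.obj X) =
          adjq.unit.app (pullback (a.map f) g) ≫ b.map (q.map s) := adjq.unit.naturality s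
      rw [b.map_comp, ← Category.assoc, ← h]
      erw [Category.assoc, adjq.right_triangle_components, Category.comp_id]
    rw [← p.map_comp, e₁, Category.assoc]
    have e₂ : adjp.counit.app Y ≫ f = p.map (a.map f) ≫ adjp.counit.app (p.obj (b.obj X)) :=
      (adjp.counit_naturality f).symm
    rw [e₂, ← Category.assoc, ← p.map_comp, hw, p.map_comp, Category.assoc]
    erw [adjp.left_triangle_components, Category.comp_id]

include adjp adjq hq hcons in
/-- The gluing equivalence. -/
theorem nonempty_equivalence_glued : Nonempty (E ≌ Comma (𝟭 A) (b ⋙ p)) := by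
  haveI := toGlued_faithful adjp adjq hq hcons
  haveI := toGlued_full adjp adjq hq hcons
  haveI := toGlued_essSurj adjp adjq hq
  haveI : (toGlued (p := p) adjq).IsEquivalence := { }
  exact ⟨(toGlued (p := p) adjq).asEquivalence⟩

include adjp hq hcons in
/-- A square of units is cartesian iff `q m` is an isomorphism. -/
theorem isPullback_unit_iff {X X' : E} (m : X ⟶ X') :
    IsPullback m (adjp.unit.app X) (adjp.unit.app X') (a.map (p.map m)) ↔ IsIso (q.map m) := by
  have w : m ≫ adjp.unit.app X' = adjp.unit.app X ≫ a.map (p.map m) := adjp.unit.naturality m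
  haveI : IsIso (q.map (a.map (p.map m))) := isIso_of_isTerminal (hq _).some (hq _).some _
  constructor
  · intro h
    exact (h.map q).isIso_fst_of_isIso
  · intro hm
    let k : X ⟶ pullback (adjp.unit.app X') (a.map (p.map m)) := pullback.lift m (adjp.unit.app X) w
    haveI hp : IsIso (p.map k) := by
      haveI : IsIso (p.map (adjp.unit.app X')) := isIso_map_unit adjp _
      haveI : IsIso (p.map (pullback.snd (adjp.unit.app X') (a.map (p.map m)))) :=
        ((IsPullback.of_hasPullback _ _).map p).isIso_snd_of_isIso
      haveI : IsIso (p.map k ≫ p.map (pullback.snd (adjp.unit.app X') (a.map (p.map m)))) := by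
        rw [← p.map_comp, pullback.lift_snd]; exact isIso_map_unit adjp _
      exact IsIso.of_isIso_comp_right (p.map k)
        (p.map (pullback.snd (adjp.unit.app X') (a.map (p.map m))))
    haveI hq' : IsIso (q.map k) := by
      haveI : IsIso (q.map (pullback.fst (adjp.unit.app X') (a.map (p.map m)))) :=
        ((IsPullback.of_hasPullback _ _).map q).isIso_fst_of_isIso
      haveI : IsIso (q.map k ≫ q.map (pullback.fst (adjp.unit.app X') (a.map (p.map m)))) := by
        rw [← q.map_comp, pullback.lift_fst]; exact hm
      exact IsIso.of_isIso_comp_right (q.map k)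
        (q.map (pullback.fst (adjp.unit.app X') (a.map (p.map m))))
    haveI : IsIso k := hcons k hp hq'
    exact IsPullback.of_iso_pullback ⟨w⟩ (asIso k) (pullback.lift_fst _ _ _) (pullback.lift_snd _ _ _)

end Gluing

end Groth.Agent.SGA4Open16
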